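import Cfsg.Agent.Lib.Helper5.M23X.X8

set_option autoImplicit false

/-! # Duality for the code, and the module structure of the kernel -/

namespace Cfsg.Agent.Lib.Helper5.M23X

open Cfsg Cfsg.Agent.Lib.Helper1

theorem wsum_zero_mul (x : W) : wsum (0 * x) = 0 := by
  unfold wsum
  simp

theorem wsum_mul_add (w x y : W) : wsum (w * (x + y)) = wsum (w * x) + wsum (w * y) := by
  rw [mul_add, wsum_add]

theorem wsum_add_mul (w w' x : W) : wsum ((w + w') * x) = wsum (w * x) + wsum (w' * x) := by
  rw [add_mul, wsum_add]

theorem wsum_smul_mul (a : ZMod 2) (w x : W) : wsum ((a • w) * x) = a * wsum (w * x) := by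
  unfold wsum
  rw [Finset.mul_sum]
  apply Finset.sum_congr rfl
  intro p _
  simp only [Pi.mul_apply, Pi.smul_apply, smul_eq_mul, mul_assoc]

theorem wsum_mul_smul (a : ZMod 2) (w x : W) : wsum (w * (a • x)) = a * wsum (w * x) := by
  rw [mul_comm w (a • x), wsum_smul_mul, mul_comm x w]

theorem wsum_single_mul (q : GolayPt) (x : W) : wsum (Pi.single q 1 * x) = x q := by
  unfold wsum
  rw [Finset.sum_eq_single q]
  · simp
  · intro p _ hp
    simp [Pi.single_apply, hp]
  · intro h
    exact absurd (Finset.mem_univ q) h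

/-- every linear functional on a subspace is the product with a word -/
theorem exists_word (S : Submodule (ZMod 2) W) (fl : ↥S →ₗ[ZMod 2] ZMod 2) :
    ∃ w : W, ∀ x : ↥S, fl x = wsum (w * x.1) := by
  obtain ⟨g, hg⟩ := LinearMap.exists_extend fl
  refine ⟨fun p => g (Pi.single p 1), ?_⟩
  intro x
  have h1 : fl x = g x.1 := by
    rw [← hg]
    rfl
  rw [h1, LinearMap.pi_apply_eq_sum_univ g x.1]
  unfold wsum
  apply Finset.sum_congr rfl
  intro p _
  have h2 : (fun j => if p = j then (1 : ZMod 2) else 0) = Pi.single p 1 := by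
    funext j
    rw [Pi.single_apply]
    by_cases h : p = j
    · rw [if_pos h, if_pos h.symm]
    · rw [if_neg h, if_neg (fun h' => h h'.symm)]
  rw [h2, smul_eq_mul, Pi.mul_apply, mul_comm]

/-- pairing with the code -/
def pairing : W →ₗ[ZMod 2] Module.Dual (ZMod 2) ↥golayCode where
  toFun w :=
    { toFun := fun c => wsum (w * c.1)
      map_add' := fun c d => by rw [Submodule.coe_add, wsum_mul_add]
      map_smul' := fun a c => by
        rw [Submodule.coe_smul, wsum_mul_smul]
        rfl }
  map_add' w w' := by
    apply LinearMap.ext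
    intro c
    exact wsum_add_mul w w' c.1
  map_smul' a w := by
    apply LinearMap.ext
    intro c
    exact wsum_smul_mul a w c.1

theorem pairing_apply (w : W) (c : ↥golayCode) : pairing w c = wsum (w * c.1) := rfl

theorem pairing_surjective : Function.Surjective pairing := by
  intro fl
  obtain ⟨w, hw⟩ := exists_word golayCode fl
  refine ⟨w, ?_⟩
  apply LinearMap.ext
  intro c
  rw [pairing_apply, hw c]

theorem golay_le_ker : golayCode ≤ LinearMap.ker pairing := by
  intro w hw
  rw [LinearMap.mem_ker]
  apply LinearMap.ext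
  intro c
  rw [pairing_apply]
  exact golay_self_orth w c.1 hw c.2

theorem ker_pairing : LinearMap.ker pairing = golayCode := by
  symm
  apply Submodule.eq_of_le_of_finrank_eq golay_le_ker
  have h1 := LinearMap.finrank_range_add_finrank_ker pairing
  rw [LinearMap.range_eq_top.mpr pairing_surjective, finrank_top, Subspace.dual_finrank_eq,
    finrank_golayCode, Module.finrank_fintype_fun_eq_card] at h1
  have h2 : Fintype.card GolayPt = 24 := by decide
  rw [h2] at h1
  rw [finrank_golayCode]
  have h3 : Module.finrank (ZMod 2) ↥(LinearMap.ker pairing) = 12 := by omega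
  exact h3.symm

/-- the code is its own orthogonal -/
theorem mem_golay_of_orth (w : W) (h : ∀ c ∈ golayCode, wsum (w * c) = 0) : w ∈ golayCode := by
  rw [← ker_pairing, LinearMap.mem_ker]
  apply LinearMap.ext
  intro c
  rw [pairing_apply]
  exact h c.1 c.2

theorem one_mem_golay : (1 : W) ∈ golayCode := by
  unfold golayCode
  exact Submodule.subset_span (Or.inr rfl)

theorem z2_cases (a : ZMod 2) : a = 0 ∨ a = 1 := by
  revert a; decide

theorem mem_golay_of_orth_C0 (w : W) (h : ∀ x ∈ C0, wsum (w * x) = 0) (h1 : wsum (w * 1) = 0) :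
    w ∈ golayCode := by
  apply mem_golay_of_orth
  intro c hc
  have hc0 : c + c none • (1 : W) ∈ C0 := by
    rw [mem_C0]
    refine ⟨golayCode.add_mem hc (golayCode.smul_mem _ one_mem_golay), ?_⟩
    simp only [Pi.add_apply, Pi.smul_apply, Pi.one_apply, smul_eq_mul, mul_one]
    exact z2_add_self _
  have h2 := h _ hc0
  rw [wsum_mul_add, wsum_mul_smul, h1, mul_zero, add_zero] at h2
  exact h2

/-- the orthogonal of the subcode -/
theorem orth_C0_iff (w : W) :
    (∀ x ∈ C0, wsum (w * x) = 0) ↔ (w ∈ golayCode ∨ w + Pi.single none 1 ∈ golayCode) := by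
  constructor
  · intro h
    rcases z2_cases (wsum (w * 1)) with h1 | h1
    · exact Or.inl (mem_golay_of_orth_C0 w h h1)
    · right
      apply mem_golay_of_orth_C0
      · intro x hx
        rw [wsum_add_mul, h x hx, wsum_single_mul, zero_add]
        exact ((mem_C0 x).mp hx).2
      · rw [wsum_add_mul, h1, wsum_single_mul, Pi.one_apply]
        decide
  · rintro (h | h) x hx
    · exact golay_self_orth w x h ((mem_C0 x).mp hx).1
    · have h2 : wsum ((w + Pi.single none 1) * x) = 0 :=
        golay_self_orth _ x h ((mem_C0 x).mp hx).1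
      rw [wsum_add_mul, wsum_single_mul, ((mem_C0 x).mp hx).2, add_zero] at h2
      exact h2

end Cfsg.Agent.Lib.Helper5.M23X
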