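import Mathlib

set_option autoImplicit false

/-! # Twisted extensions of a group by functions on a module, cut out by a cochain -/

namespace Cfsg.Agent.Lib.Helper5.M23X

/-- pairs of a function and a group element -/
@[ext] structure TP (Γ : Type) (X : Type) where
  /-- the function part -/
  f : X → ZMod 2
  /-- the group part -/
  g : Γ

variable {Γ : Type} [Group Γ] {X : Type} [AddCommGroup X] [DistribMulAction Γ X]

theorem z2_add_self (a : ZMod 2) : a + a = 0 := by
  revert a; decide

instance : Mul (TP Γ X) := ⟨fun a b => ⟨fun w => a.f w + b.f (a.g⁻¹ • w), a.g * b.g⟩⟩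
instance : One (TP Γ X) := ⟨⟨fun _ => 0, 1⟩⟩
instance : Inv (TP Γ X) := ⟨fun a => ⟨fun w => a.f (a.g • w), a.g⁻¹⟩⟩

theorem TP.mul_f (a b : TP Γ X) (w : X) : (a * b).f w = a.f w + b.f (a.g⁻¹ • w) := rfl
theorem TP.mul_g (a b : TP Γ X) : (a * b).g = a.g * b.g := rfl
theorem TP.one_f (w : X) : (1 : TP Γ X).f w = 0 := rfl
theorem TP.one_g : (1 : TP Γ X).g = 1 := rfl
theorem TP.inv_f (a : TP Γ X) (w : X) : (a⁻¹).f w = a.f (a.g • w) := rfl
theorem TP.inv_g (a : TP Γ X) : (a⁻¹).g = a.g⁻¹ := rfl

instance : Group (TP Γ X) :=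
  Group.ofLeftAxioms
    (by
      intro a b c
      apply TP.ext
      · funext w
        simp only [TP.mul_f, TP.mul_g, mul_inv_rev, mul_smul, add_assoc]
      · simp only [TP.mul_g, mul_assoc])
    (by
      intro a
      apply TP.ext
      · funext w
        simp only [TP.mul_f, TP.one_f, TP.one_g, inv_one, one_smul, zero_add]
      · simp only [TP.mul_g, TP.one_g, one_mul])
    (by
      intro a
      apply TP.ext
      · funext w
        simp only [TP.mul_f, TP.inv_f, TP.inv_g, inv_inv, TP.one_f]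
        exact z2_add_self _
      · simp only [TP.mul_g, TP.inv_g, inv_mul_cancel, TP.one_g])

/-- the twisting cochain of a group element -/
def cc (θ : X → X → ZMod 2) (π : Γ) (x y : X) : ZMod 2 := θ x y + θ (π⁻¹ • x) (π⁻¹ • y)

/-- the compatibility condition -/
def Valid (θ : X → X → ZMod 2) (a : TP Γ X) : Prop :=
  ∀ x y, a.f (x + y) = a.f x + a.f y + cc θ a.g x y

/-- the extension group -/
def EE (θ : X → X → ZMod 2) : Subgroup (TP Γ X) where
  carrier := {a | Valid θ a}
  mul_mem' := by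
    intro a b ha hb x y
    have h1 := ha x y
    have h2 := hb (a.g⁻¹ • x) (a.g⁻¹ • y)
    simp only [TP.mul_f, TP.mul_g, smul_add, cc, mul_inv_rev, mul_smul] at h1 h2 ⊢
    rw [h1, h2]
    generalize a.f x = a1
    generalize a.f y = a2
    generalize b.f (a.g⁻¹ • x) = a3
    generalize b.f (a.g⁻¹ • y) = a4
    generalize θ x y = a5
    generalize θ (a.g⁻¹ • x) (a.g⁻¹ • y) = a6
    generalize θ (b.g⁻¹ • a.g⁻¹ • x) (b.g⁻¹ • a.g⁻¹ • y) = a7
    revert a1 a2 a3 a4 a5 a6 a7
    decide
  one_mem' := by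
    intro x y
    simp only [TP.one_f, TP.one_g, cc, inv_one, one_smul, zero_add]
    exact (z2_add_self _).symm
  inv_mem' := by
    intro a ha x y
    have h1 := ha (a.g • x) (a.g • y)
    simp only [TP.inv_f, TP.inv_g, smul_add, cc, inv_inv, inv_smul_smul] at h1 ⊢
    rw [h1]
    generalize a.f (a.g • x) = a1
    generalize a.f (a.g • y) = a2
    generalize θ x y = a5
    generalize θ (a.g • x) (a.g • y) = a6
    revert a1 a2 a5 a6
    decide

/-- the projection to the group part -/
def proj (θ : X → X → ZMod 2) : ↥(EE (Γ := Γ) θ) →* Γ where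
  toFun a := a.1.g
  map_one' := rfl
  map_mul' _ _ := rfl

theorem proj_apply (θ : X → X → ZMod 2) (a : ↥(EE (Γ := Γ) θ)) : proj θ a = a.1.g := rfl

theorem mem_EE (θ : X → X → ZMod 2) (a : TP Γ X) : a ∈ EE θ ↔ Valid θ a := Iff.rfl

end Cfsg.Agent.Lib.Helper5.M23X
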