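import Cfsg.Agent.Lib.Helper5.M23X.X9

set_option autoImplicit false

/-! # The non-split extension of the point stabiliser by the cocode module -/

namespace Cfsg.Agent.Lib.Helper5.M23X

open Cfsg Cfsg.Agent.Lib.Helper1

/-- the extension group -/
abbrev EG : Type := ↥(EE (Γ := ↥Cfsg.Spor.M23) theta0)

/-- the kernel -/
noncomputable abbrev NG : Subgroup EG := (proj theta0).ker

instance : Finite (TP ↥Cfsg.Spor.M23 ↥C0) := by
  apply Finite.of_injective (fun a : TP ↥Cfsg.Spor.M23 ↥C0 => (a.f, a.g))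
  intro a b h
  apply TP.ext
  · exact (Prod.ext_iff.mp h).1
  · exact (Prod.ext_iff.mp h).2

theorem cc_one (x y : ↥C0) : cc theta0 (1 : ↥Cfsg.Spor.M23) x y = 0 := by
  unfold cc
  rw [inv_one, one_smul, one_smul]
  exact z2_add_self _

/-- the element of the kernel attached to a word -/
noncomputable def kerElt (w : W) : ↥NG :=
  ⟨⟨⟨fun x => wsum (w * x.1), 1⟩, by
    intro x y
    show wsum (w * (x + y).1) = wsum (w * x.1) + wsum (w * y.1) + cc theta0 1 x y
    rw [cc_one, add_zero, Submodule.coe_add, wsum_mul_add]⟩, by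
    rw [MonoidHom.mem_ker]
    rfl⟩

theorem kerElt_f (w : W) (x : ↥C0) : (kerElt w).1.1.f x = wsum (w * x.1) := rfl
theorem kerElt_g (w : W) : (kerElt w).1.1.g = 1 := rfl

theorem NG_ext {a b : ↥NG} (h : ∀ x, a.1.1.f x = b.1.1.f x) : a = b := by
  apply Subtype.ext
  apply Subtype.ext
  apply TP.ext
  · funext x
    exact h x
  · have ha : a.1.1.g = 1 := MonoidHom.mem_ker.mp a.2
    have hb : b.1.1.g = 1 := MonoidHom.mem_ker.mp b.2
    rw [ha, hb]

theorem NG_mul_f (a b : ↥NG) (x : ↥C0) : (a * b).1.1.f x = a.1.1.f x + b.1.1.f x := by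
  have ha : a.1.1.g = 1 := MonoidHom.mem_ker.mp a.2
  show a.1.1.f x + b.1.1.f (a.1.1.g⁻¹ • x) = _
  rw [ha, inv_one, one_smul]

/-- the module map onto the kernel -/
noncomputable def thetaHom : W →+ Additive ↥NG where
  toFun w := Additive.ofMul (kerElt w)
  map_zero' := by
    apply congrArg Additive.ofMul
    apply NG_ext
    intro x
    rw [kerElt_f, wsum_zero_mul]
    rfl
  map_add' w w' := by
    show Additive.ofMul (kerElt (w + w')) = Additive.ofMul (kerElt w * kerElt w')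
    apply congrArg Additive.ofMul
    apply NG_ext
    intro x
    rw [NG_mul_f, kerElt_f, kerElt_f, kerElt_f, wsum_add_mul]

theorem thetaHom_apply (w : W) : (thetaHom w).toMul = kerElt w := rfl

theorem thetaHom_surjective : Function.Surjective thetaHom := by
  intro n
  have hg : (n.toMul).1.1.g = 1 := MonoidHom.mem_ker.mp (n.toMul).2
  have hv := (n.toMul).1.2
  have hadd : ∀ x y : ↥C0, (n.toMul).1.1.f (x + y) = (n.toMul).1.1.f x + (n.toMul).1.1.f y := by
    intro x y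
    have h := hv x y
    rw [hg, cc_one, add_zero] at h
    exact h
  let fa : ↥C0 →+ ZMod 2 := AddMonoidHom.mk' (n.toMul).1.1.f hadd
  obtain ⟨w, hw⟩ := exists_word C0 (fa.toZModLinearMap 2)
  refine ⟨w, ?_⟩
  show Additive.ofMul (kerElt w) = n
  have h2 : kerElt w = n.toMul := by
    apply NG_ext
    intro x
    rw [kerElt_f, ← hw x]
    rfl
  rw [h2]
  rfl

theorem thetaHom_eq_zero_iff (w : W) :
    thetaHom w = 0 ↔ (w ∈ golayCode ∨ w + Pi.single none 1 ∈ golayCode) := by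
  rw [← orth_C0_iff]
  constructor
  · intro h x hx
    have h1 : kerElt w = 1 := congrArg Additive.toMul h
    have h2 := congrArg (fun a : ↥NG => a.1.1.f ⟨x, hx⟩) h1
    exact h2
  · intro h
    show Additive.ofMul (kerElt w) = Additive.ofMul 1
    apply congrArg Additive.ofMul
    apply NG_ext
    intro x
    rw [kerElt_f, h x.1 x.2]
    rfl

/-- the quotient isomorphism -/
noncomputable def phiIso : EG ⧸ NG ≃* ↥Cfsg.Spor.M23 :=
  QuotientGroup.quotientKerEquivOfSurjective (proj theta0) proj_surjective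

theorem phiIso_mk (g : EG) : phiIso (QuotientGroup.mk g) = g.1.g := rfl

theorem conj_formula (g : EG) (w : W) :
    ((thetaHom (w ∘ ⇑(((phiIso (QuotientGroup.mk g) : ↥Cfsg.Spor.M23) : Equiv.Perm GolayPt)⁻¹))).toMul : EG)
      = g * ((thetaHom w).toMul : EG) * g⁻¹ := by
  rw [phiIso_mk, thetaHom_apply, thetaHom_apply]
  apply Subtype.ext
  apply TP.ext
  · funext x
    show wsum ((w ∘ ⇑((g.1.g : Equiv.Perm GolayPt)⁻¹)) * x.1) = (g.1 * (kerElt w).1.1 * g.1⁻¹).f x
    rw [TP.mul_f, TP.mul_f, TP.inv_f, TP.mul_g, kerElt_g, mul_one, smul_inv_smul, kerElt_f]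
    have h1 : g.1.f x + wsum (w * (g.1.g⁻¹ • x).1) + g.1.f x = wsum (w * (g.1.g⁻¹ • x).1) := by
      generalize g.1.f x = a
      generalize wsum (w * (g.1.g⁻¹ • x).1) = b
      revert a b
      decide
    rw [h1]
    unfold wsum
    rw [← Equiv.sum_comp (g.1.g : Equiv.Perm GolayPt)]
    apply Finset.sum_congr rfl
    intro p _
    show w (((g.1.g : Equiv.Perm GolayPt)⁻¹) ((g.1.g : Equiv.Perm GolayPt) p)) * x.1 ((g.1.g : Equiv.Perm GolayPt) p)
      = w p * x.1 ((((g.1.g)⁻¹ : ↥Cfsg.Spor.M23) : Equiv.Perm GolayPt).symm p)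
    rw [Equiv.Perm.inv_def, Equiv.symm_apply_apply]
    rfl
  · show (1 : ↥Cfsg.Spor.M23) = g.1.g * 1 * g.1.g⁻¹
    rw [mul_one, mul_inv_cancel]

/-- a non-split extension of the point stabiliser by the cocode module -/
theorem nonsplit_exists :
    ∃ (E : Type) (_ : Group E) (_ : Finite E) (N : Subgroup E) (_ : N.Normal)
      (φ : E ⧸ N ≃* ↥Cfsg.Spor.M23) (θ : (Cfsg.GolayPt → ZMod 2) →+ Additive ↥N),
      Function.Surjective θ ∧
      (∀ w : Cfsg.GolayPt → ZMod 2, θ w = 0 ↔ (w ∈ Cfsg.golayCode ∨ w + Pi.single none 1 ∈ Cfsg.golayCode)) ∧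
      (∀ (g : E) (w : Cfsg.GolayPt → ZMod 2),
        ((θ (w ∘ ⇑(((φ (QuotientGroup.mk g) : ↥Cfsg.Spor.M23) : Equiv.Perm Cfsg.GolayPt)⁻¹))).toMul : E)
          = g * ((θ w).toMul : E) * g⁻¹) ∧
      ∀ H : Subgroup E, H ⊓ N = ⊥ → H ⊔ N ≠ ⊤ :=
  ⟨EG, inferInstance, inferInstance, NG, inferInstance, phiIso, thetaHom, thetaHom_surjective,
    thetaHom_eq_zero_iff, conj_formula, no_complement_M23⟩

end Cfsg.Agent.Lib.Helper5.M23X
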