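import Cfsg.Agent.Lib.Helper5.M23X.X1

set_option autoImplicit false

/-! # A criterion for the absence of complements: a quaternion certificate -/

namespace Cfsg.Agent.Lib.Helper5.M23X

variable {Γ : Type} [Group Γ] {X : Type} [AddCommGroup X] [DistribMulAction Γ X]

theorem z2_cert : ∀ (A1 A2 A3 A4 B1 B2 B3 B4 c1 c2 c3 c4 : ZMod 2),
    A1 + B1 + A2 = B2 → B3 + A3 + B4 = A4 → A1 + A2 + c1 = A3 + A4 + c2 →
    B1 + B2 + c3 = B3 + B4 + c4 → c1 + c2 + c3 + c4 = 1 → False := by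
  intro A1 A2 A3 A4 B1 B2 B3 B4 c1 c2 c3 c4 E1 E2 V1 V3 hk
  have h2 : (2 : ZMod 2) = 0 := by decide
  have h10 : (1 : ZMod 2) = 0 := by
    linear_combination hk - V1 - V3 + E1 - E2 - (c2 + c4 + A4 - B2) * h2 + h2
  exact absurd h10 (by decide)

theorem exists_lift (θ : X → X → ZMod 2) (hs : Function.Surjective (proj (Γ := Γ) θ))
    (H : Subgroup ↥(EE (Γ := Γ) θ)) (htop : H ⊔ (proj θ).ker = ⊤) (π : Γ) :
    ∃ h ∈ H, proj θ h = π := by
  obtain ⟨e, he⟩ := hs π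
  have hmem : e ∈ H ⊔ (proj θ).ker := by rw [htop]; exact Subgroup.mem_top e
  have h2 : e ∈ ((H ⊔ (proj θ).ker : Subgroup _) : Set _) := hmem
  rw [Subgroup.mul_normal] at h2
  obtain ⟨h, hh, n, hn, rfl⟩ := Set.mem_mul.mp h2
  refine ⟨h, hh, ?_⟩
  rw [← he, map_mul, MonoidHom.mem_ker.mp hn, mul_one]

theorem no_complement (θ : X → X → ZMod 2) (hs : Function.Surjective (proj (Γ := Γ) θ))
    (x y : Γ) (hxyx : x * y * x = y) (hyxy : y * x * y = x) (z z' : X)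
    (hP : (x * y) • z + z = x • z' + (y * x) • z')
    (hQ : y • z + (x * y) • z = (y * x) • z' + z')
    (hκ : cc θ x ((x * y) • z) z + cc θ x (x • z') ((y * x) • z') + cc θ y (y • z) ((x * y) • z)
        + cc θ y ((y * x) • z') z' = 1) :
    ∀ H : Subgroup ↥(EE (Γ := Γ) θ), H ⊓ (proj θ).ker = ⊥ → H ⊔ (proj θ).ker ≠ ⊤ := by
  intro H hbot htop
  obtain ⟨a, haH, hax⟩ := exists_lift θ hs H htop x
  obtain ⟨b, hbH, hby⟩ := exists_lift θ hs H htop y
  have r1 : a * b * a * b⁻¹ = 1 := by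
    have h1 : a * b * a * b⁻¹ ∈ H ⊓ (proj θ).ker := by
      refine Subgroup.mem_inf.mpr ⟨H.mul_mem (H.mul_mem (H.mul_mem haH hbH) haH) (H.inv_mem hbH), ?_⟩
      rw [MonoidHom.mem_ker]
      simp only [map_mul, map_inv, hax, hby, hxyx, mul_inv_cancel]
    rw [hbot] at h1
    exact Subgroup.mem_bot.mp h1
  have r2 : b * a * b * a⁻¹ = 1 := by
    have h1 : b * a * b * a⁻¹ ∈ H ⊓ (proj θ).ker := by
      refine Subgroup.mem_inf.mpr ⟨H.mul_mem (H.mul_mem (H.mul_mem hbH haH) hbH) (H.inv_mem haH), ?_⟩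
      rw [MonoidHom.mem_ker]
      simp only [map_mul, map_inv, hax, hby, hyxy, mul_inv_cancel]
    rw [hbot] at h1
    exact Subgroup.mem_bot.mp h1
  have e1 : a * b * a = b := mul_inv_eq_one.mp r1
  have e2 : b * a * b = a := mul_inv_eq_one.mp r2
  have hag : a.1.g = x := hax
  have hbg : b.1.g = y := hby
  have E1 := congrFun (congrArg TP.f (congrArg Subtype.val e1)) ((x * y) • z)
  have E2 := congrFun (congrArg TP.f (congrArg Subtype.val e2)) ((y * x) • z')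
  simp only [Subgroup.coe_mul, TP.mul_f, TP.mul_g, hag, hbg, inv_smul_smul] at E1 E2
  rw [mul_smul x y z, inv_smul_smul] at E1
  rw [mul_smul y x z', inv_smul_smul] at E2
  have V1 := a.2 ((x * y) • z) z
  have V2 := a.2 (x • z') ((y * x) • z')
  have V3 := b.2 (y • z) ((x * y) • z)
  have V4 := b.2 ((y * x) • z') z'
  rw [hag] at V1 V2
  rw [hbg] at V3 V4
  rw [hP] at V1
  rw [hQ] at V3
  rw [V2] at V1
  rw [V4] at V3
  rw [mul_smul x y z] at V1 V3 hκ
  rw [mul_smul y x z'] at V1 V3 hκ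
  exact z2_cert _ _ _ _ _ _ _ _ _ _ _ _ E1 E2 V1.symm V3.symm hκ
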