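import Mathlib

set_option autoImplicit false

/-! # Quadratic refinements of alternating forms in characteristic two -/

namespace Cfsg.Agent.Lib.Helper5.M23X

theorem sum_upper_eq {n : ℕ} (M : Fin n → Fin n → ZMod 2) (hMs : ∀ i j, M i j = M j i)
    (hM0 : ∀ i, M i i = 0) (X Y : Fin n → ZMod 2) :
    (∑ i, ∑ j, if i < j then (X i * Y j + Y i * X j) * M i j else 0) =
      ∑ i, ∑ j, X i * Y j * M i j := by
  have h1 : ∀ i j, X i * Y j * M i j = (if i < j then X i * Y j * M i j else 0) +
      (if j < i then X i * Y j * M i j else 0) := by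
    intro i j
    rcases lt_trichotomy i j with h | h | h
    · rw [if_pos h, if_neg (not_lt_of_gt h), add_zero]
    · subst h
      rw [if_neg (lt_irrefl _), hM0, mul_zero, add_zero]
    · rw [if_neg (not_lt_of_gt h), if_pos h, zero_add]
  have h2 : (∑ i, ∑ j, X i * Y j * M i j) =
      (∑ i, ∑ j, if i < j then X i * Y j * M i j else 0) +
        ∑ i, ∑ j, if j < i then X i * Y j * M i j else 0 := by
    rw [← Finset.sum_add_distrib]
    apply Finset.sum_congr rfl
    intro i _
    rw [← Finset.sum_add_distrib]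
    apply Finset.sum_congr rfl
    intro j _
    exact h1 i j
  rw [h2, Finset.sum_comm (f := fun i j => if j < i then X i * Y j * M i j else 0),
    ← Finset.sum_add_distrib]
  apply Finset.sum_congr rfl
  intro i _
  rw [← Finset.sum_add_distrib]
  apply Finset.sum_congr rfl
  intro j _
  split_ifs with h
  · rw [hMs j i]; ring
  · rw [add_zero]

theorem exists_quadratic {V : Type*} [AddCommGroup V] [Module (ZMod 2) V]
    [Module.Finite (ZMod 2) V] (B : V → V → ZMod 2)
    (hr : ∀ x y z, B x (y + z) = B x y + B x z) (hs : ∀ x y, B x y = B y x)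
    (ha : ∀ x, B x x = 0) : ∃ f : V → ZMod 2, ∀ x y, f (x + y) = f x + f y + B x y := by
  classical
  have hl : ∀ x y z, B (x + y) z = B x z + B y z := by
    intro x y z
    rw [hs, hr, hs z x, hs z y]
  have h0l : ∀ y, B 0 y = 0 := by
    intro y
    have h := hl 0 0 y
    rw [add_zero] at h
    exact add_left_cancel (a := B 0 y) (by rw [← h, add_zero])
  have h0r : ∀ x, B x 0 = 0 := fun x => by rw [hs]; exact h0l x
  have hc : ∀ c : ZMod 2, c = 0 ∨ c = 1 := by decide
  have hsl : ∀ (c : ZMod 2) x y, B (c • x) y = c • B x y := by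
    intro c x y
    rcases hc c with rfl | rfl
    · rw [zero_smul, zero_smul, h0l]
    · rw [one_smul, one_smul]
  have hsr : ∀ (c : ZMod 2) x y, B x (c • y) = c • B x y := by
    intro c x y
    rcases hc c with rfl | rfl
    · rw [zero_smul, zero_smul, h0r]
    · rw [one_smul, one_smul]
  let Bl : V →ₗ[ZMod 2] V →ₗ[ZMod 2] ZMod 2 := LinearMap.mk₂ (ZMod 2) B hl hsl hr hsr
  let b := Module.finBasis (ZMod 2) V
  have hexp : ∀ x y, B x y = ∑ i, ∑ j, b.repr x i * b.repr y j * B (b i) (b j) := by
    intro x y
    have h := LinearMap.sum_repr_mul_repr_mul b b (B := Bl) x y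
    rw [Finsupp.sum_fintype _ _ (by intro i; simp)] at h
    have h3 : Bl x y = B x y := rfl
    rw [← h3, ← h]
    apply Finset.sum_congr rfl
    intro i _
    rw [Finsupp.sum_fintype _ _ (by intro j; simp)]
    apply Finset.sum_congr rfl
    intro j _
    show b.repr x i • b.repr y j • B (b i) (b j) = _
    rw [smul_eq_mul, smul_eq_mul, mul_assoc]
  refine ⟨fun x => ∑ i, ∑ j, if i < j then b.repr x i * b.repr x j * B (b i) (b j) else 0, ?_⟩
  intro x y
  rw [hexp x y, ← sum_upper_eq (fun i j => B (b i) (b j)) (fun i j => hs _ _) (fun i => ha _)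
    (fun i => b.repr x i) (fun i => b.repr y i)]
  simp only [map_add, Finsupp.add_apply]
  rw [← Finset.sum_add_distrib, ← Finset.sum_add_distrib]
  apply Finset.sum_congr rfl
  intro i _
  rw [← Finset.sum_add_distrib, ← Finset.sum_add_distrib]
  apply Finset.sum_congr rfl
  intro j _
  split_ifs with h
  · ring
  · simp

end Cfsg.Agent.Lib.Helper5.M23X
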