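import Cfsg.Agent.Lib.Helper5.M23X.X4
import Cfsg.Agent.Lib.Helper1.Golay5

set_option autoImplicit false

/-! # Words, masks and the cochain at the level of functions -/

namespace Cfsg.Agent.Lib.Helper5.M23X

open Cfsg Cfsg.Agent.Lib.Helper1

/-- the binary words on the 24 points -/
abbrev W : Type := GolayPt → ZMod 2

/-- the sum of the entries of a word -/
def wsum (w : W) : ZMod 2 := ∑ p, w p

theorem wsum_add (u v : W) : wsum (u + v) = wsum u + wsum v := by
  unfold wsum
  simp only [Pi.add_apply, Finset.sum_add_distrib]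

theorem wsum_ofMask (m : ℕ) : wsum (ofMask m) = (popcN 24 m : ZMod 2) := by
  unfold wsum
  rw [← card_support₂_ofMask, support₂_ofMask]
  simp only [ofMask]
  rw [Finset.sum_boole]

theorem ofMask_and (a b : ℕ) : ofMask (a &&& b) = ofMask a * ofMask b := by
  funext p
  simp only [ofMask, Pi.mul_apply, Nat.testBit_and]
  cases a.testBit (gIdx p) <;> cases b.testBit (gIdx p) <;> decide

theorem natCast_mod_two (n : ℕ) : ((n % 2 : ℕ) : ZMod 2) = (n : ZMod 2) := by
  exact ZMod.natCast_mod n 2

/-! ### fast weights -/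

theorem popcN_add (a b m : ℕ) : popcN (a + b) m = popcN a m + popcN b (m >>> a) := by
  induction b with
  | zero => simp [popcN]
  | succ b ih =>
    rw [← add_assoc, popcN, ih, popcN, Nat.testBit_shiftRight, add_assoc]

theorem popcN_and_mask (k j m : ℕ) (hj : j ≤ k) : popcN j (m &&& (2 ^ k - 1)) = popcN j m := by
  induction j with
  | zero => simp [popcN]
  | succ j ih =>
    rw [popcN, popcN, ih (by omega), Nat.testBit_and, Nat.testBit_two_pow_sub_one]
    have : decide (j < k) = true := by simpa using (by omega : j < k)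
    rw [this, Bool.and_true]

theorem pop12_eq' {w : ℕ} (hw : w < 4096) : pop12 w = popcN 12 w := by
  have h := (allBelow_iff _ _).mp pop12_eq w hw
  simpa using h

theorem pop24_eq {m : ℕ} (hm : m < 2 ^ 24) : pop24 m = popcN 24 m := by
  unfold pop24
  have h1 : m &&& 4095 < 4096 := by
    have := @Nat.and_le_right m 4095
    omega
  have h2 : m >>> 12 < 4096 := by
    rw [Nat.shiftRight_eq_div_pow]
    omega
  rw [pop12_eq' h1, pop12_eq' h2]
  have h3 : popcN 12 (m &&& 4095) = popcN 12 m := popcN_and_mask 12 12 m le_rfl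
  rw [h3]
  exact (popcN_add 12 12 m).symm

theorem CWm_eq' {c : ℕ} (hc : c < 2048) : CWm c = cw c := by
  have h := (allBelow_iff _ _).mp CWm_eq c hc
  simpa using h

theorem TTm_lt (c : ℕ) : TTm c < 2 ^ 24 := by
  unfold TTm
  have := @Nat.and_le_right (TTlit >>> (24 * c)) 16777215
  omega

/-! ### masks of words -/

open Classical in
/-- the mask of a word -/
noncomputable def maskOf (u : W) : ℕ :=
  if h : ∃ m, m < 2 ^ 24 ∧ ofMask m = u then Nat.find h else 0

theorem maskOf_ofMask {m : ℕ} (hm : m < 2 ^ 24) : maskOf (ofMask m) = m := by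
  classical
  unfold maskOf
  have h : ∃ m', m' < 2 ^ 24 ∧ ofMask m' = ofMask m := ⟨m, hm, rfl⟩
  rw [dif_pos h]
  have hs := Nat.find_spec h
  exact ofMask_injOn hs.1 hm hs.2

/-- the cochain on words -/
noncomputable def thetaW (u v : W) : ZMod 2 := wsum (ofMask (TTm (maskOf u >>> 12)) * v)

theorem thetaW_add_right (u v v' : W) : thetaW u (v + v') = thetaW u v + thetaW u v' := by
  unfold thetaW
  rw [mul_add, wsum_add]

theorem thetaW_cw {c : ℕ} (hc : c < 2048) (m : ℕ) :
    thetaW (ofMask (cw c)) (ofMask m) = wsum (ofMask (TTm c &&& m)) := by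
  unfold thetaW
  rw [maskOf_ofMask (cw_lt (by omega)), cw_shift (by omega), ofMask_and]

/-- half of the size of the intersection, modulo two -/
def sW (u v : W) : ZMod 2 := (((support₂ (u * v)).card / 2 : ℕ) : ZMod 2)

/-- a quarter of the weight, modulo two -/
def qW (u : W) : ZMod 2 := (((support₂ u).card / 4 : ℕ) : ZMod 2)

theorem sW_comm (u v : W) : sW u v = sW v u := by
  unfold sW
  rw [mul_comm]

/-- the coordinate action of a permutation on words -/
def pact (σ : Equiv.Perm GolayPt) (w : W) : W := fun p => w (σ.symm p)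

theorem pact_mul_words (σ : Equiv.Perm GolayPt) (u v : W) : pact σ u * pact σ v = pact σ (u * v) := rfl

theorem card_support₂_pact (σ : Equiv.Perm GolayPt) (w : W) :
    (support₂ (pact σ w)).card = (support₂ w).card := by
  have h := smul_support₂ σ w
  unfold pact
  rw [← h, Finset.card_smul_finset]

theorem sW_pact (σ : Equiv.Perm GolayPt) (u v : W) : sW (pact σ u) (pact σ v) = sW u v := by
  unfold sW
  rw [pact_mul_words, card_support₂_pact]

theorem qW_pact (σ : Equiv.Perm GolayPt) (u : W) : qW (pact σ u) = qW u := by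
  unfold qW
  rw [card_support₂_pact]

end Cfsg.Agent.Lib.Helper5.M23X
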