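import Cfsg.Agent.Lib.Helper5.M23X.X5

set_option autoImplicit false

/-! # The symmetry defect and the diagonal of the cochain -/

namespace Cfsg.Agent.Lib.Helper5.M23X

open Cfsg Cfsg.Agent.Lib.Helper1

theorem testBit_xorFold (T : ℕ → ℕ) (d r : ℕ) (k m : ℕ)
    (hr : ∀ p < k, r.testBit p = (T p).testBit d) :
    (xorFold T k m).testBit d = decide (popcN k (m &&& r) % 2 = 1) := by
  induction k with
  | zero => simp [xorFold, popcN]
  | succ k ih =>
    have ih' := ih (fun p hp => hr p (by omega))
    rw [xorFold, Nat.testBit_xor, ih', popcN, Nat.testBit_and, hr k (by omega)]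
    by_cases hm : m.testBit k = true
    · rw [if_pos hm, hm, Bool.true_and]
      by_cases ht : (T k).testBit d = true
      · rw [ht, if_pos rfl]
        by_cases hp : popcN k (m &&& r) % 2 = 1
        · have : ¬ (popcN k (m &&& r) + 1) % 2 = 1 := by omega
          simp [hp, this]
        · have : (popcN k (m &&& r) + 1) % 2 = 1 := by omega
          simp [hp, this]
      · have ht' : (T k).testBit d = false := by simpa using ht
        rw [ht']
        simp
    · have hm' : m.testBit k = false := by simpa using hm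
      rw [if_neg hm, hm']
      simp

theorem testBit_cntFold (T : ℕ → ℕ) (d r : ℕ) (k m : ℕ)
    (hr : ∀ p < k, r.testBit p = (T p).testBit d) :
    (cntFold T k m).1.testBit d = decide (popcN k (m &&& r) % 2 = 1) ∧
      (cntFold T k m).2.testBit d = decide (popcN k (m &&& r) / 2 % 2 = 1) := by
  induction k with
  | zero => simp [cntFold, popcN]
  | succ k ih =>
    obtain ⟨ih1, ih2⟩ := ih (fun p hp => hr p (by omega))
    rw [cntFold, popcN, Nat.testBit_and, hr k (by omega)]
    by_cases hm : m.testBit k = true
    · rw [if_pos hm, hm, Bool.true_and]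
      simp only [Nat.testBit_xor, Nat.testBit_and, ih1, ih2]
      by_cases ht : (T k).testBit d = true
      · rw [ht, if_pos rfl]
        generalize popcN k (m &&& r) = n
        have h4 : n % 4 = 0 ∨ n % 4 = 1 ∨ n % 4 = 2 ∨ n % 4 = 3 := by omega
        rcases h4 with h | h | h | h
        · have a1 : ¬ n % 2 = 1 := by omega
          have a2 : ¬ n / 2 % 2 = 1 := by omega
          have a3 : (n + 1) % 2 = 1 := by omega
          have a4 : ¬ (n + 1) / 2 % 2 = 1 := by omega
          simp [a1, a2, a3, a4]
        · have a1 : n % 2 = 1 := by omega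
          have a2 : ¬ n / 2 % 2 = 1 := by omega
          have a3 : ¬ (n + 1) % 2 = 1 := by omega
          have a4 : (n + 1) / 2 % 2 = 1 := by omega
          simp [a1, a2, a3, a4]
        · have a1 : ¬ n % 2 = 1 := by omega
          have a2 : n / 2 % 2 = 1 := by omega
          have a3 : (n + 1) % 2 = 1 := by omega
          have a4 : (n + 1) / 2 % 2 = 1 := by omega
          simp [a1, a2, a3, a4]
        · have a1 : n % 2 = 1 := by omega
          have a2 : n / 2 % 2 = 1 := by omega
          have a3 : ¬ (n + 1) % 2 = 1 := by omega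
          have a4 : ¬ (n + 1) / 2 % 2 = 1 := by omega
          simp [a1, a2, a3, a4]
      · have ht' : (T k).testBit d = false := by simpa using ht
        rw [ht']
        simp
    · have hm' : m.testBit k = false := by simpa using hm
      rw [if_neg hm, hm']
      simp only [Bool.false_and, Bool.false_eq_true, if_false, add_zero]
      exact ⟨ih1, ih2⟩

theorem transp_spec {T R : ℕ → ℕ} (h : transpOK T R = true) {d : ℕ} (hd : d < 2048) :
    ∀ p < 24, (R d).testBit p = (T p).testBit d := by
  intro p hp
  unfold transpOK at h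
  have h1 := (allBelow_iff _ _).mp h p hp
  have h2 := (allBelow_iff _ _).mp h1 d hd
  have h3 : (T p).testBit d = (R d).testBit p := by simpa using h2
  exact h3.symm

/-- the symmetry defect of the cochain, on masks -/
theorem A2_mask {c d : ℕ} (hc : c < 2048) (hd : d < 2048) :
    (popcN 24 (TTm c &&& CWm d) + popcN 24 (TTm d &&& CWm c)) % 2 =
      popcN 24 (CWm c &&& CWm d) / 2 % 2 := by
  have h0 := (allBelow_iff _ _).mp rows_ok c hc
  have h1 : rowVec c = 0 := by simpa using h0
  have h2 : (rowVec c).testBit d = false := by rw [h1]; exact Nat.zero_testBit d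
  unfold rowVec at h2
  rw [Nat.testBit_xor, Nat.testBit_xor,
    testBit_xorFold COLt d (CWm d) 24 (TTm c) (transp_spec transp_C hd),
    testBit_xorFold TCOLt d (TTm d) 24 (CWm c) (transp_spec transp_T hd),
    (testBit_cntFold COLt d (CWm d) 24 (CWm c) (transp_spec transp_C hd)).2] at h2
  rw [Nat.land_comm (TTm d) (CWm c)]
  generalize popcN 24 (TTm c &&& CWm d) = n1 at h2 ⊢
  generalize popcN 24 (CWm c &&& TTm d) = n2 at h2 ⊢
  generalize popcN 24 (CWm c &&& CWm d) = n3 at h2 ⊢
  by_cases a1 : n1 % 2 = 1 <;> by_cases a2 : n2 % 2 = 1 <;> by_cases a3 : n3 / 2 % 2 = 1 <;>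
    simp [a1, a2, a3] at h2 <;> omega

/-- the diagonal of the cochain, on masks -/
theorem A3_mask {c : ℕ} (hc : c < 2048) :
    popcN 24 (TTm c &&& CWm c) % 2 = popcN 24 (CWm c) / 4 % 2 := by
  have h0 := (allBelow_iff _ _).mp chkA3 c hc
  unfold chkDiag at h0
  have h1 : TTm c &&& CWm c < 2 ^ 24 := lt_of_le_of_lt Nat.and_le_left (TTm_lt c)
  have h2 : CWm c < 2 ^ 24 := by rw [CWm_eq' hc]; exact cw_lt (by omega)
  rw [pop24_eq h1, pop24_eq h2] at h0
  simpa using h0

end Cfsg.Agent.Lib.Helper5.M23X
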