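import Cfsg.Agent.Lib.Helper5.M23X.X6
import Cfsg.Agent.Lib.Helper5.M23X.X2
import Cfsg.Agent.Lib.Helper5.M23X.X3
import Cfsg.Prelude.Def_Spor_Mathieu

set_option autoImplicit false

/-! # The extension group over the point stabiliser -/

namespace Cfsg.Agent.Lib.Helper5.M23X

open Cfsg Cfsg.Agent.Lib.Helper1
open scoped Pointwise

/-- the words of the code vanishing at the extra point -/
def C0 : Submodule (ZMod 2) W := golayCode ⊓ LinearMap.ker (LinearMap.proj (none : GolayPt))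

theorem mem_C0 (w : W) : w ∈ C0 ↔ w ∈ golayCode ∧ w none = 0 := by
  unfold C0
  rw [Submodule.mem_inf, LinearMap.mem_ker, LinearMap.proj_apply]

theorem testBit_cw_23 {c : ℕ} (hc : c < 4096) : (cw c).testBit 23 = c.testBit 11 := by
  have h := cw_shift hc
  have h2 : (cw c >>> 12).testBit 11 = (cw c).testBit 23 := by
    rw [Nat.testBit_shiftRight]
  rw [← h2, h]

theorem ofMask_none (n : ℕ) : ofMask n none = if n.testBit 23 then 1 else 0 := rfl

theorem pt_mem {c : ℕ} (hc : c < 2048) : ofMask (cw c) ∈ C0 := by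
  rw [mem_C0]
  refine ⟨(mem_golayCode_iff _).mpr ⟨c, by omega, rfl⟩, ?_⟩
  rw [ofMask_none, testBit_cw_23 (by omega), Nat.testBit_lt_two_pow (by omega : c < 2 ^ 11)]
  rfl

theorem exists_idx (u : ↥C0) : ∃ c, c < 2048 ∧ u.1 = ofMask (cw c) := by
  obtain ⟨h1, h2⟩ := (mem_C0 u.1).mp u.2
  obtain ⟨c, hc, hu⟩ := (mem_golayCode_iff _).mp h1
  refine ⟨c, ?_, hu⟩
  rw [hu, ofMask_none, testBit_cw_23 hc] at h2
  by_contra hge
  have h3 : c.testBit 11 = true := by
    rw [Nat.testBit_eq_decide_div_mod_eq]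
    have : c / 2 ^ 11 % 2 = 1 := by omega
    simpa using this
  rw [h3] at h2
  exact absurd h2 (by decide)

/-- the cochain on the subcode -/
noncomputable def theta0 (u v : ↥C0) : ZMod 2 := thetaW u.1 v.1

theorem cast_eq_of_mod {a b : ℕ} (h : a % 2 = b % 2) : (a : ZMod 2) = (b : ZMod 2) :=
  (ZMod.natCast_eq_natCast_iff' a b 2).mpr h

theorem theta0_symm_defect (u v : ↥C0) : theta0 u v + theta0 v u = sW u.1 v.1 := by
  obtain ⟨c, hc, hu⟩ := exists_idx u
  obtain ⟨d, hd, hv⟩ := exists_idx v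
  unfold theta0 sW
  rw [hu, hv, thetaW_cw hc, thetaW_cw hd, wsum_ofMask, wsum_ofMask, ← ofMask_and,
    card_support₂_ofMask, ← Nat.cast_add]
  apply cast_eq_of_mod
  have h := A2_mask hc hd
  rw [CWm_eq' hc, CWm_eq' hd] at h
  rw [h]

theorem theta0_diag (u : ↥C0) : theta0 u u = qW u.1 := by
  obtain ⟨c, hc, hu⟩ := exists_idx u
  unfold theta0 qW
  rw [hu, thetaW_cw hc, wsum_ofMask, card_support₂_ofMask]
  apply cast_eq_of_mod
  have h := A3_mask hc
  rw [CWm_eq' hc] at h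
  rw [h]

/-! ### the action of the point stabiliser on the subcode -/

theorem pact_mem_golay {σ : Equiv.Perm GolayPt} (hσ : σ ∈ M24) {w : W} (hw : w ∈ golayCode) :
    pact σ w ∈ golayCode := by
  have h1 : σ • supports (golayCode : Set (GolayPt → ZMod 2)) =
      supports (golayCode : Set (GolayPt → ZMod 2)) := hσ
  have h2 : support₂ w ∈ supports (golayCode : Set (GolayPt → ZMod 2)) := ⟨w, hw, rfl⟩
  have h3 : σ • support₂ w ∈ σ • supports (golayCode : Set (GolayPt → ZMod 2)) :=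
    Set.smul_mem_smul_set h2
  rw [h1] at h3
  obtain ⟨w', hw', h4⟩ := h3
  rw [smul_support₂] at h4
  have h5 : w' = pact σ w := support₂_injective h4
  rw [← h5]
  exact hw'

theorem M23_fix {σ : Equiv.Perm GolayPt} (hσ : σ ∈ Cfsg.Spor.M23) : σ none = none := by
  have h := hσ.2
  exact h

theorem M23_symm_fix {σ : Equiv.Perm GolayPt} (hσ : σ ∈ Cfsg.Spor.M23) : σ.symm none = none := by
  have h := M23_fix hσ
  rw [Equiv.symm_apply_eq, h]

theorem pact_mem_C0 {σ : Equiv.Perm GolayPt} (hσ : σ ∈ Cfsg.Spor.M23) {w : W} (hw : w ∈ C0) :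
    pact σ w ∈ C0 := by
  rw [mem_C0] at hw ⊢
  refine ⟨pact_mem_golay hσ.1 hw.1, ?_⟩
  show w (σ.symm none) = 0
  rw [M23_symm_fix hσ]
  exact hw.2

noncomputable instance : SMul ↥Cfsg.Spor.M23 ↥C0 :=
  ⟨fun σ u => ⟨pact σ.1 u.1, pact_mem_C0 σ.2 u.2⟩⟩

theorem smul_val (σ : ↥Cfsg.Spor.M23) (u : ↥C0) : (σ • u).1 = pact σ.1 u.1 := rfl

noncomputable instance : DistribMulAction ↥Cfsg.Spor.M23 ↥C0 where
  one_smul u := by
    apply Subtype.ext
    rw [smul_val]
    rfl
  mul_smul σ τ u := by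
    apply Subtype.ext
    rw [smul_val, smul_val, smul_val]
    rfl
  smul_zero σ := by
    apply Subtype.ext
    rw [smul_val]
    rfl
  smul_add σ u v := by
    apply Subtype.ext
    rw [smul_val]
    rfl

/-! ### every element of the point stabiliser lifts -/

theorem cc_add_right (σ : ↥Cfsg.Spor.M23) (x y z : ↥C0) :
    cc theta0 σ x (y + z) = cc theta0 σ x y + cc theta0 σ x z := by
  unfold cc theta0
  rw [smul_add, Submodule.coe_add, Submodule.coe_add, thetaW_add_right, thetaW_add_right]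
  abel

theorem cc_symm (σ : ↥Cfsg.Spor.M23) (x y : ↥C0) : cc theta0 σ x y = cc theta0 σ y x := by
  unfold cc
  have h1 := theta0_symm_defect x y
  have h2 := theta0_symm_defect (σ⁻¹ • x) (σ⁻¹ • y)
  rw [smul_val, smul_val, sW_pact] at h2
  rw [← h1] at h2
  clear h1
  generalize theta0 x y = a at *
  generalize theta0 y x = b at *
  generalize theta0 (σ⁻¹ • x) (σ⁻¹ • y) = c at *
  generalize theta0 (σ⁻¹ • y) (σ⁻¹ • x) = d at *
  revert a b c d
  decide

theorem cc_self (σ : ↥Cfsg.Spor.M23) (x : ↥C0) : cc theta0 σ x x = 0 := by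
  unfold cc
  rw [theta0_diag, theta0_diag, smul_val, qW_pact]
  exact z2_add_self _

theorem proj_surjective : Function.Surjective (proj (Γ := ↥Cfsg.Spor.M23) theta0) := by
  intro σ
  obtain ⟨f, hf⟩ := exists_quadratic (V := ↥C0) (cc theta0 σ) (cc_add_right σ) (cc_symm σ) (cc_self σ)
  exact ⟨⟨⟨f, σ⟩, hf⟩, rfl⟩

end Cfsg.Agent.Lib.Helper5.M23X
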