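import Cfsg.Agent.Lib.Helper5.M23X.X7
import Cfsg.Agent.Lib.Helper9.TabPerm

set_option autoImplicit false
set_option maxRecDepth 100000

/-! # A quaternion subgroup of the point stabiliser over which the extension does not split -/

namespace Cfsg.Agent.Lib.Helper5.M23X

open Cfsg Cfsg.Agent.Lib.Helper1
open Cfsg.Agent.Lib.Helper9.M24 (tperm tabOK tabM24 tget pmask tab ptOfNat natOfPt tperm_apply
  tperm_mem natOfPt_tperm natOfPt_lt natOfPt_eq_gIdx pmask_testBit_tget)

/-- the first generator -/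
def tX : List ℕ := [1, 5, 11, 3, 16, 6, 0, 9, 2, 10, 14, 15, 19, 17, 7, 8, 4, 12, 22, 13, 20, 21, 18, 23]

/-- the second generator -/
def tY : List ℕ := [2, 8, 5, 3, 22, 15, 11, 17, 6, 13, 19, 1, 9, 14, 12, 0, 18, 10, 16, 7, 20, 21, 4, 23]

theorem tX_ok : tabOK tX = true := by decide +kernel
theorem tY_ok : tabOK tY = true := by decide +kernel
theorem tX_M24 : tabM24 tX = true := by decide +kernel
theorem tY_M24 : tabM24 tY = true := by decide +kernel

theorem tperm_none {a : List ℕ} (h : tabOK a = true) (h23 : tget a 23 = 23) : tperm a none = none := by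
  rw [tperm_apply h]
  show ptOfNat (tget a 23) = none
  rw [h23]
  rfl

theorem mem_M23_of {a : List ℕ} (h : tabOK a = true) (hM : tabM24 a = true) (h23 : tget a 23 = 23) :
    tperm a ∈ Cfsg.Spor.M23 :=
  ⟨tperm_mem h hM, tperm_none h h23⟩

/-- the first generator, in the point stabiliser -/
def gX : ↥Cfsg.Spor.M23 := ⟨tperm tX, mem_M23_of tX_ok tX_M24 (by decide)⟩

/-- the second generator, in the point stabiliser -/
def gY : ↥Cfsg.Spor.M23 := ⟨tperm tY, mem_M23_of tY_ok tY_M24 (by decide)⟩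

theorem gX_gY_gX : gX * gY * gX = gY := by
  apply Subtype.ext
  apply Equiv.ext
  intro p
  show tperm tX (tperm tY (tperm tX p)) = tperm tY p
  rw [tperm_apply tX_ok, tperm_apply tX_ok, tperm_apply tY_ok, tperm_apply tY_ok]
  revert p
  decide

theorem gY_gX_gY : gY * gX * gY = gX := by
  apply Subtype.ext
  apply Equiv.ext
  intro p
  show tperm tY (tperm tX (tperm tY p)) = tperm tX p
  rw [tperm_apply tY_ok, tperm_apply tY_ok, tperm_apply tX_ok, tperm_apply tX_ok]
  revert p
  decide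

theorem pact_tperm_ofMask {a : List ℕ} (h : tabOK a = true) (m : ℕ) :
    pact (tperm a) (ofMask m) = ofMask (pmask a m) := by
  funext q
  obtain ⟨p, rfl⟩ := (tperm a).surjective q
  show ofMask m ((tperm a).symm (tperm a p)) = ofMask (pmask a m) (tperm a p)
  rw [Equiv.symm_apply_apply]
  unfold ofMask
  rw [← natOfPt_eq_gIdx, natOfPt_tperm h, pmask_testBit_tget h _ (natOfPt_lt p)]

/-- the point of the subcode with a given index -/
noncomputable def ptc (c : ℕ) (hc : c < 2048) : ↥C0 := ⟨ofMask (cw c), pt_mem hc⟩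

theorem smul_ptc {a : List ℕ} (h : tabOK a = true) (hm : tperm a ∈ Cfsg.Spor.M23) {c c' : ℕ}
    (hc : c < 2048) (hc' : c' < 2048) (he : pmask a (cw c) = cw c') :
    (⟨tperm a, hm⟩ : ↥Cfsg.Spor.M23) • ptc c hc = ptc c' hc' := by
  apply Subtype.ext
  rw [smul_val]
  show pact (tperm a) (ofMask (cw c)) = ofMask (cw c')
  rw [pact_tperm_ofMask h, he]

theorem ptc_add {a b c d : ℕ} (ha : a < 2048) (hb : b < 2048) (hc : c < 2048) (hd : d < 2048)
    (he : cw a ^^^ cw b = cw c ^^^ cw d) : ptc a ha + ptc b hb = ptc c hc + ptc d hd := by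
  apply Subtype.ext
  show ofMask (cw a) + ofMask (cw b) = ofMask (cw c) + ofMask (cw d)
  rw [← ofMask_xor, ← ofMask_xor, he]

theorem C0_add_self (u : ↥C0) : u + u = 0 := by
  apply Subtype.ext
  funext p
  exact z2_add_self _

theorem f1 : gY • ptc 528 (by norm_num) = ptc 1608 (by norm_num) :=
  smul_ptc tY_ok _ _ _ (by decide +kernel)
theorem f2 : gX • ptc 1608 (by norm_num) = ptc 1608 (by norm_num) :=
  smul_ptc tX_ok _ _ _ (by decide +kernel)
theorem f3 : gX • ptc 528 (by norm_num) = ptc 528 (by norm_num) :=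
  smul_ptc tX_ok _ _ _ (by decide +kernel)
theorem f4 : gX • ptc 832 (by norm_num) = ptc 1816 (by norm_num) :=
  smul_ptc tX_ok _ _ _ (by decide +kernel)
theorem f5 : gY • ptc 1816 (by norm_num) = ptc 832 (by norm_num) :=
  smul_ptc tY_ok _ _ _ (by decide +kernel)
theorem f6 : gX • ptc 1816 (by norm_num) = ptc 832 (by norm_num) :=
  smul_ptc tX_ok _ _ _ (by decide +kernel)

theorem sW_val : sW (ptc 1816 (by norm_num)).1 (ptc 832 (by norm_num)).1 = 1 := by
  show sW (ofMask (cw 1816)) (ofMask (cw 832)) = 1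
  unfold sW
  rw [← ofMask_and, card_support₂_ofMask]
  have h : popcN 24 (cw 1816 &&& cw 832) / 2 = 1 := by decide +kernel
  rw [h]
  decide

/-- the extension has no complement -/
theorem no_complement_M23 : ∀ H : Subgroup ↥(EE (Γ := ↥Cfsg.Spor.M23) theta0),
    H ⊓ (proj theta0).ker = ⊥ → H ⊔ (proj theta0).ker ≠ ⊤ := by
  apply no_complement theta0 proj_surjective gX gY gX_gY_gX gY_gX_gY
    (ptc 528 (by norm_num)) (ptc 832 (by norm_num))
  · rw [mul_smul, mul_smul, f1, f2, f4, f5]
    exact ptc_add _ _ _ _ (by decide +kernel)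
  · rw [mul_smul, mul_smul, f1, f2, f4, f5, C0_add_self, C0_add_self]
  · rw [mul_smul, mul_smul, f1, f2, f4, f5, cc_self, cc_self, add_zero, add_zero]
    unfold cc
    have i1 : gX⁻¹ • ptc 1608 (by norm_num) = ptc 1608 (by norm_num) := inv_smul_eq_iff.mpr f2.symm
    have i2 : gX⁻¹ • ptc 528 (by norm_num) = ptc 528 (by norm_num) := inv_smul_eq_iff.mpr f3.symm
    have i3 : gX⁻¹ • ptc 1816 (by norm_num) = ptc 832 (by norm_num) := inv_smul_eq_iff.mpr f4.symm
    have i4 : gX⁻¹ • ptc 832 (by norm_num) = ptc 1816 (by norm_num) := inv_smul_eq_iff.mpr f6.symm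
    rw [i1, i2, i3, i4, z2_add_self, zero_add, theta0_symm_defect, sW_val]

end Cfsg.Agent.Lib.Helper5.M23X
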